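import Mathlib

/-!
Points under an admissible change of variables with `u = 1`.
-/

universe u

namespace Groth.Agent.H9EllAdd

open WeierstrassCurve

variable {K : Type u} [Field K] [DecidableEq K] (W : WeierstrassCurve K) (r s t : K)

/-- The change of variables `(x, y) ↦ (x - r, y - s (x - r) - t)`. -/
abbrev shift : WeierstrassCurve K := (VariableChange.mk 1 r s t : VariableChange K) • W

theorem shift_a₁ : (shift W r s t).a₁ = W.a₁ + 2 * s := by simp [variableChange_a₁]
theorem shift_a₂ : (shift W r s t).a₂ = W.a₂ - s * W.a₁ + 3 * r - s ^ 2 := by simp [variableChange_a₂]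
theorem shift_a₃ : (shift W r s t).a₃ = W.a₃ + r * W.a₁ + 2 * t := by simp [variableChange_a₃]
theorem shift_a₄ : (shift W r s t).a₄ =
    W.a₄ - s * W.a₃ + 2 * r * W.a₂ - (t + r * s) * W.a₁ + 3 * r ^ 2 - 2 * s * t := by
  simp [variableChange_a₄]
theorem shift_a₆ : (shift W r s t).a₆ =
    W.a₆ + r * W.a₄ + r ^ 2 * W.a₂ + r ^ 3 - t * W.a₃ - t ^ 2 - r * t * W.a₁ := by
  simp [variableChange_a₆]

variable {W}

theorem equation_shift {x y : K} (h : W.toAffine.Equation x y) :
    (shift W r s t).toAffine.Equation (x - r) (y - s * (x - r) - t) := by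
  rw [Affine.equation_iff] at h ⊢
  simp only [shift_a₁, shift_a₂, shift_a₃, shift_a₄, shift_a₆]
  linear_combination h

theorem negY_shift (x y : K) :
    (shift W r s t).toAffine.negY (x - r) (y - s * (x - r) - t) = W.toAffine.negY x y - s * (x - r) - t := by
  simp only [Affine.negY, shift_a₁, shift_a₃]
  ring

variable [W.IsElliptic]

/-- The transported point. -/
noncomputable def shiftPt : W.toAffine.Point → (shift W r s t).toAffine.Point
  | .zero => .zero
  | .some x y h => .some (x - r) (y - s * (x - r) - t)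
      (((shift W r s t).toAffine.equation_iff_nonsingular).1 (equation_shift r s t h.1))

theorem shiftPt_add (P Q : W.toAffine.Point) :
    shiftPt r s t (P + Q) = shiftPt r s t P + shiftPt r s t Q := by
  match P, Q with
  | .zero, Q => exact (congrArg _ (zero_add Q)).trans (zero_add _).symm
  | P, .zero => exact (congrArg _ (add_zero P)).trans (add_zero _).symm
  | .some x₁ y₁ h₁, .some x₂ y₂ h₂ =>
    by_cases hxy : x₁ = x₂ ∧ y₁ = W.toAffine.negY x₂ y₂
    · rw [Affine.Point.add_of_Y_eq hxy.1 hxy.2]
      exact (Affine.Point.add_of_Y_eq (h₁ := (shift W r s t).toAffine.equation_iff_nonsingular.1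
        (equation_shift r s t h₁.1)) (by rw [hxy.1]) (by rw [negY_shift, hxy.1, hxy.2])).symm
    · have hxy' : ¬(x₁ - r = x₂ - r ∧
          y₁ - s * (x₁ - r) - t = (shift W r s t).toAffine.negY (x₂ - r) (y₂ - s * (x₂ - r) - t)) := by
        rintro ⟨hx, hy⟩
        have hx' : x₁ = x₂ := sub_left_inj.1 hx
        rw [negY_shift, hx'] at hy
        exact hxy ⟨hx', by linear_combination hy⟩
      have hl : (shift W r s t).toAffine.slope (x₁ - r) (x₂ - r) (y₁ - s * (x₁ - r) - t)
          (y₂ - s * (x₂ - r) - t) = W.toAffine.slope x₁ x₂ y₁ y₂ - s := by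
        by_cases hx : x₁ = x₂
        · have hy : y₁ ≠ W.toAffine.negY x₂ y₂ := fun hy => hxy ⟨hx, hy⟩
          have hy' : y₁ - s * (x₁ - r) - t ≠
              (shift W r s t).toAffine.negY (x₂ - r) (y₂ - s * (x₂ - r) - t) :=
            fun hy' => hxy' ⟨by rw [hx], hy'⟩
          have hyy := Affine.Y_eq_of_Y_ne h₁.1 h₂.1 hx hy
          subst hyy
          subst hx
          rw [Affine.slope_of_Y_ne rfl hy', Affine.slope_of_Y_ne rfl hy]
          have hd : y₁ - W.toAffine.negY x₁ y₁ ≠ 0 := sub_ne_zero.2 hy
          rw [negY_shift, eq_sub_iff_add_eq, div_add' _ _ _ (by rwa [sub_sub_sub_cancel_right, sub_sub_sub_cancel_right])]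
          rw [sub_sub_sub_cancel_right, sub_sub_sub_cancel_right]
          congr 1
          simp only [Affine.negY, shift_a₁, shift_a₂, shift_a₄]
          ring
        · rw [Affine.slope_of_X_ne (fun h => hx (sub_left_inj.1 h)), Affine.slope_of_X_ne hx,
            sub_sub_sub_cancel_right, sub_sub_sub_cancel_right x₁ x₂ r, eq_sub_iff_add_eq,
            div_add' _ _ _ (sub_ne_zero.2 hx)]
          congr 1
          ring
      rw [Affine.Point.add_some hxy]
      refine Eq.trans ?_ (Affine.Point.add_some hxy').symm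
      simp only [shiftPt, Affine.Point.some.injEq, hl]
      constructor <;>
        simp only [Affine.addY, Affine.negY, Affine.negAddY, Affine.addX, shift_a₁, shift_a₂, shift_a₃] <;> ring

/-- The transport as a homomorphism. -/
noncomputable def shiftHom : W.toAffine.Point →+ (shift W r s t).toAffine.Point :=
  AddMonoidHom.mk' (shiftPt r s t) (shiftPt_add r s t)

theorem shiftHom_injective : Function.Injective (shiftHom (W := W) r s t) := by
  rw [injective_iff_map_eq_zero]
  rintro (_ | ⟨x, y, h⟩) hP
  · rfl
  · exact absurd hP (Affine.Point.some_ne_zero _)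

theorem shiftHom_some {x y : K} (h : W.toAffine.Nonsingular x y) :
    ∃ h', shiftHom r s t (.some x y h) = .some (x - r) (y - s * (x - r) - t) h' := ⟨_, rfl⟩

end Groth.Agent.H9EllAdd
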