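import Mathlib

/-!
Points with regular reduction on an integral Weierstrass curve congruent to `y² = x³`: the parameter
`x / y` is additive up to higher order, so such points have no torsion of order prime to the residue
characteristic.
-/

universe u

namespace Groth.Agent.H9EllAdd

open WeierstrassCurve IsLocalRing

variable {R : Type u} [CommRing R] [IsLocalRing R] {K : Type u} [Field K] [DecidableEq K]
  [Algebra R K]

/-- All coefficients lie in the maximal ideal. -/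
structure Cusp (I : WeierstrassCurve R) : Prop where
  a₁ : I.a₁ ∈ maximalIdeal R
  a₂ : I.a₂ ∈ maximalIdeal R
  a₃ : I.a₃ ∈ maximalIdeal R
  a₄ : I.a₄ ∈ maximalIdeal R
  a₆ : I.a₆ ∈ maximalIdeal R

variable (I : WeierstrassCurve R)

/-- `(z, w)` lies on the curve in the chart around the point at infinity. -/
def OnChart (z w : R) : Prop :=
  w + I.a₁ * z * w + I.a₃ * w ^ 2 = z ^ 3 + I.a₂ * z ^ 2 * w + I.a₄ * z * w ^ 2 + I.a₆ * w ^ 3

variable {I}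

theorem isUnit_one_add {a : R} (ha : a ∈ maximalIdeal R) : IsUnit (1 + a) := by
  have h := IsLocalRing.isUnit_one_sub_self_of_mem_nonunits (-a) ((maximalIdeal R).neg_mem ha)
  rwa [sub_neg_eq_add] at h

theorem mem_of_onChart (hI : Cusp I) {z w : R} (h : OnChart I z w) {J : Ideal R} (hz : z ∈ J) : w ∈ J := by
  have hu : IsUnit (1 + (I.a₁ * z + I.a₃ * w - I.a₂ * z ^ 2 - I.a₄ * z * w - I.a₆ * w ^ 2)) := by
    apply isUnit_one_add
    have := hI.a₁; have := hI.a₂; have := hI.a₃; have := hI.a₄; have := hI.a₆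
    exact Ideal.sub_mem _ (Ideal.sub_mem _ (Ideal.sub_mem _ (Ideal.add_mem _ (Ideal.mul_mem_right _ _ hI.a₁)
      (Ideal.mul_mem_right _ _ hI.a₃)) (Ideal.mul_mem_right _ _ hI.a₂))
      (Ideal.mul_mem_right _ _ (Ideal.mul_mem_right _ _ hI.a₄))) (Ideal.mul_mem_right _ _ hI.a₆)
  refine (Ideal.mul_unit_mem_iff_mem J hu).1 ?_
  have : w * (1 + (I.a₁ * z + I.a₃ * w - I.a₂ * z ^ 2 - I.a₄ * z * w - I.a₆ * w ^ 2)) = z ^ 3 := by
    rw [OnChart] at h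
    linear_combination h
  rw [this]
  exact J.pow_mem_of_mem hz 3 (by norm_num)

theorem mem_mul_left {J : Ideal R} {a b : R} (ha : a ∈ maximalIdeal R) (hb : b ∈ J) :
    a * b ∈ maximalIdeal R * J := Ideal.mul_mem_mul ha hb

/-- Equal parameters force equal points. -/
theorem eq_of_onChart (hI : Cusp I) {z w₁ w₂ : R} (h₁ : OnChart I z w₁) (h₂ : OnChart I z w₂) : w₁ = w₂ := by
  have hu : IsUnit (1 + (I.a₁ * z + I.a₃ * (w₁ + w₂) - I.a₂ * z ^ 2 - I.a₄ * z * (w₁ + w₂) -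
      I.a₆ * (w₁ ^ 2 + w₁ * w₂ + w₂ ^ 2))) := by
    apply isUnit_one_add
    exact Ideal.sub_mem _ (Ideal.sub_mem _ (Ideal.sub_mem _ (Ideal.add_mem _ (Ideal.mul_mem_right _ _ hI.a₁)
      (Ideal.mul_mem_right _ _ hI.a₃)) (Ideal.mul_mem_right _ _ hI.a₂))
      (Ideal.mul_mem_right _ _ (Ideal.mul_mem_right _ _ hI.a₄))) (Ideal.mul_mem_right _ _ hI.a₆)
  refine sub_eq_zero.1 ((hu.mul_right_eq_zero).1 ?_)
  rw [OnChart] at h₁ h₂
  linear_combination h₁ - h₂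

/-- The line through two chart points has integral slope; the third point is integral and congruent
to minus the sum. -/
theorem exists_line_secant (hI : Cusp I) {z₁ w₁ z₂ w₂ : R} (h₁ : OnChart I z₁ w₁) (h₂ : OnChart I z₂ w₂)
    {J : Ideal R} (hz₁ : z₁ ∈ J) (hz₂ : z₂ ∈ J) :
    ∃ l ∈ J, w₁ - w₂ = l * (z₁ - z₂) := by
  have hw₁ := mem_of_onChart hI h₁ hz₁
  have hw₂ := mem_of_onChart hI h₂ hz₂
  obtain ⟨v, hv⟩ : IsUnit (1 + (I.a₁ * z₁ + I.a₃ * (w₁ + w₂) - I.a₂ * z₁ ^ 2 - I.a₄ * z₁ * (w₁ + w₂) -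
      I.a₆ * (w₁ ^ 2 + w₁ * w₂ + w₂ ^ 2))) := by
    apply isUnit_one_add
    exact Ideal.sub_mem _ (Ideal.sub_mem _ (Ideal.sub_mem _ (Ideal.add_mem _ (Ideal.mul_mem_right _ _ hI.a₁)
      (Ideal.mul_mem_right _ _ hI.a₃)) (Ideal.mul_mem_right _ _ hI.a₂))
      (Ideal.mul_mem_right _ _ (Ideal.mul_mem_right _ _ hI.a₄))) (Ideal.mul_mem_right _ _ hI.a₆)
  refine ⟨(z₁ ^ 2 + z₁ * z₂ + z₂ ^ 2 - I.a₁ * w₂ + I.a₂ * (z₁ + z₂) * w₂ + I.a₄ * w₂ ^ 2) * ↑v⁻¹,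
    Ideal.mul_mem_right _ _ ?_, ?_⟩
  · exact Ideal.add_mem _ (Ideal.add_mem _ (Ideal.sub_mem _ (Ideal.add_mem _ (Ideal.add_mem _
      (J.pow_mem_of_mem hz₁ 2 two_pos) (Ideal.mul_mem_left _ _ hz₂)) (J.pow_mem_of_mem hz₂ 2 two_pos))
      (Ideal.mul_mem_left _ _ hw₂)) (Ideal.mul_mem_left _ _ hw₂))
      (Ideal.mul_mem_left _ _ (J.pow_mem_of_mem hw₂ 2 two_pos))
  · have key : (w₁ - w₂) * ↑v =
        (z₁ ^ 2 + z₁ * z₂ + z₂ ^ 2 - I.a₁ * w₂ + I.a₂ * (z₁ + z₂) * w₂ + I.a₄ * w₂ ^ 2) * (z₁ - z₂) := by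
      rw [hv]
      rw [OnChart] at h₁ h₂
      linear_combination h₁ - h₂
    calc w₁ - w₂ = (w₁ - w₂) * ↑v * ↑v⁻¹ := by rw [mul_assoc, v.mul_inv, mul_one]
      _ = _ := by rw [key]; ring

theorem exists_line_tangent (hI : Cusp I) {z w : R} (h : OnChart I z w) {J : Ideal R} (hz : z ∈ J) :
    IsUnit (1 + I.a₁ * z - I.a₂ * z ^ 2 + 2 * I.a₃ * w - 2 * I.a₄ * z * w - 3 * I.a₆ * w ^ 2) ∧
    ∃ l ∈ J, 3 * z ^ 2 - I.a₁ * w + 2 * I.a₂ * z * w + I.a₄ * w ^ 2 =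
      l * (1 + I.a₁ * z - I.a₂ * z ^ 2 + 2 * I.a₃ * w - 2 * I.a₄ * z * w - 3 * I.a₆ * w ^ 2) := by
  have hw := mem_of_onChart hI h hz
  have hu : IsUnit (1 + (I.a₁ * z - I.a₂ * z ^ 2 + I.a₃ * (2 * w) - I.a₄ * (2 * z * w) - I.a₆ * (3 * w ^ 2))) := by
    apply isUnit_one_add
    exact Ideal.sub_mem _ (Ideal.sub_mem _ (Ideal.add_mem _ (Ideal.sub_mem _ (Ideal.mul_mem_right _ _ hI.a₁)
      (Ideal.mul_mem_right _ _ hI.a₂)) (Ideal.mul_mem_right _ _ hI.a₃))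
      (Ideal.mul_mem_right _ _ hI.a₄)) (Ideal.mul_mem_right _ _ hI.a₆)
  have e : 1 + I.a₁ * z - I.a₂ * z ^ 2 + 2 * I.a₃ * w - 2 * I.a₄ * z * w - 3 * I.a₆ * w ^ 2 =
      1 + (I.a₁ * z - I.a₂ * z ^ 2 + I.a₃ * (2 * w) - I.a₄ * (2 * z * w) - I.a₆ * (3 * w ^ 2)) := by ring
  rw [e]
  obtain ⟨v, hv⟩ := hu
  refine ⟨hv ▸ v.isUnit, (3 * z ^ 2 - I.a₁ * w + 2 * I.a₂ * z * w + I.a₄ * w ^ 2) * ↑v⁻¹,
    Ideal.mul_mem_right _ _ ?_, ?_⟩
  · exact Ideal.add_mem _ (Ideal.add_mem _ (Ideal.sub_mem _ (Ideal.mul_mem_left _ _ (J.pow_mem_of_mem hz 2 two_pos))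
      (Ideal.mul_mem_left _ _ hw)) (Ideal.mul_mem_left _ _ hw)) (Ideal.mul_mem_left _ _ (J.pow_mem_of_mem hw 2 two_pos))
  · rw [← hv, Units.inv_mul_cancel_right]

variable (W : WeierstrassCurve K) (I)

/-- `P` has regular reduction with parameter `z`. -/
def Ev (P : W.toAffine.Point) (z : R) : Prop :=
  (P = 0 ∧ z = 0) ∨ ∃ (x y : K) (h : W.toAffine.Nonsingular x y) (w : R),
    P = .some x y h ∧ y * algebraMap R K w = 1 ∧ algebraMap R K z = x * algebraMap R K w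

variable {W I}

section

variable [FaithfulSMul R K] (hW : I.map (algebraMap R K) = W) (hI : Cusp I)

include hW in
theorem coeffs : algebraMap R K I.a₁ = W.a₁ ∧ algebraMap R K I.a₂ = W.a₂ ∧ algebraMap R K I.a₃ = W.a₃ ∧
    algebraMap R K I.a₄ = W.a₄ ∧ algebraMap R K I.a₆ = W.a₆ := by
  subst hW; simp

include hW in
theorem onChart_of_eq {x y : K} (h : W.toAffine.Equation x y) {z w : R} (hy : y * algebraMap R K w = 1)
    (hx : algebraMap R K z = x * algebraMap R K w) : OnChart I z w := by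
  obtain ⟨e1, e2, e3, e4, e6⟩ := coeffs hW
  apply FaithfulSMul.algebraMap_injective R K
  simp only [map_add, map_mul, map_pow, e1, e2, e3, e4, e6, hx]
  rw [Affine.equation_iff] at h
  linear_combination (algebraMap R K w) ^ 3 * h + (-(algebraMap R K w) * (y * algebraMap R K w + 1) - W.a₁ * x * (algebraMap R K w) ^ 2 - W.a₃ * (algebraMap R K w) ^ 2) * hy

include hW hI in
theorem ev_neg {P : W.toAffine.Point} {z : R} (hP : Ev W P z) {J : Ideal R} (hz : z ∈ J) :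
    ∃ z', Ev W (-P) z' ∧ z' + z ∈ maximalIdeal R * J := by
  rcases hP with ⟨rfl, rfl⟩ | ⟨x, y, h, w, rfl, hy, hx⟩
  · exact ⟨0, Or.inl ⟨neg_zero, rfl⟩, by simp⟩
  obtain ⟨e1, e2, e3, e4, e6⟩ := coeffs hW
  have hw := mem_of_onChart hI (onChart_of_eq hW h.1 hy hx) hz
  obtain ⟨v, hv⟩ := isUnit_one_add (a := I.a₁ * z + I.a₃ * w)
    (Ideal.add_mem _ (Ideal.mul_mem_right _ _ hI.a₁) (Ideal.mul_mem_right _ _ hI.a₃))
  have hvi : algebraMap R K ↑v⁻¹ * (1 + (W.a₁ * (x * algebraMap R K w) + W.a₃ * algebraMap R K w)) = 1 := by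
    rw [← hx, ← e1, ← e3, ← map_mul, ← map_mul, ← map_add, ← map_one (algebraMap R K), ← map_add, ← map_mul,
      ← hv, v.inv_mul]
  refine ⟨-(z * ↑v⁻¹), Or.inr ⟨x, W.toAffine.negY x y, (Affine.nonsingular_neg x y).2 h, -(w * ↑v⁻¹),
    Affine.Point.neg_some h, ?_, ?_⟩, ?_⟩
  · simp only [Affine.negY, map_neg, map_mul]
    linear_combination hvi + (algebraMap R K ↑v⁻¹) * hy
  · simp only [map_neg, map_mul, hx]
    ring
  · have : -(z * ↑v⁻¹) + z = (I.a₁ * z + I.a₃ * w) * (z * ↑v⁻¹) := by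
      have h1 : (v : R) * ↑v⁻¹ = 1 := v.mul_inv
      rw [hv] at h1
      linear_combination (-z) * h1
    rw [this]
    exact Ideal.mul_mem_mul (Ideal.add_mem _ (Ideal.mul_mem_right _ _ hI.a₁) (Ideal.mul_mem_right _ _ hI.a₃))
      (Ideal.mul_mem_right _ _ hz)

include hW hI in
/-- The third intersection of a line with integral slope in the chart. -/
theorem ev_third {x₁ y₁ x₂ y₂ : K} (h₁ : W.toAffine.Nonsingular x₁ y₁) (h₂ : W.toAffine.Nonsingular x₂ y₂)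
    (hxy : ¬(x₁ = x₂ ∧ y₁ = W.toAffine.negY x₂ y₂)) {z₁ w₁ z₂ w₂ : R}
    (hy₁ : y₁ * algebraMap R K w₁ = 1) (hx₁ : algebraMap R K z₁ = x₁ * algebraMap R K w₁)
    (hy₂ : y₂ * algebraMap R K w₂ = 1) (hx₂ : algebraMap R K z₂ = x₂ * algebraMap R K w₂)
    {J : Ideal R} (hz₁ : z₁ ∈ J) {l : R} (hl : l ∈ J)
    (hline : (y₁ - W.toAffine.slope x₁ x₂ y₁ y₂ * x₁) * algebraMap R K l = -W.toAffine.slope x₁ x₂ y₁ y₂) :
    ∃ z₃, Ev W (.some _ _ (Affine.nonsingular_negAdd h₁ h₂ hxy)) z₃ ∧ z₁ + z₂ + z₃ ∈ maximalIdeal R * J := by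
  obtain ⟨e1, e2, e3, e4, e6⟩ := coeffs hW
  have hw₁ := mem_of_onChart hI (onChart_of_eq hW h₁.1 hy₁ hx₁) hz₁
  set m := W.toAffine.slope x₁ x₂ y₁ y₂ with hm
  set c := y₁ - m * x₁ with hc
  set ν := w₁ - l * z₁ with hν
  have hcν : c * algebraMap R K ν = 1 := by
    rw [hν, map_sub, map_mul, hx₁]
    linear_combination hy₁ + (-(x₁ * algebraMap R K w₁)) * hline
  have hc0 : c ≠ 0 := left_ne_zero_of_mul_eq_one hcν
  have hmc : m = -(c * algebraMap R K l) := by linear_combination hline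
  obtain ⟨A, hA⟩ := isUnit_one_add (a := I.a₂ * l + I.a₄ * l ^ 2 + I.a₆ * l ^ 3)
    (Ideal.add_mem _ (Ideal.add_mem _ (Ideal.mul_mem_right _ _ hI.a₂) (Ideal.mul_mem_right _ _ hI.a₄))
      (Ideal.mul_mem_right _ _ hI.a₆))
  set B := -(I.a₁ * l) + I.a₂ * ν - I.a₃ * l ^ 2 + 2 * I.a₄ * (l * ν) + 3 * I.a₆ * (l ^ 2 * ν) with hB
  have hνJ : ν ∈ J := Ideal.sub_mem _ hw₁ (Ideal.mul_mem_left _ _ hz₁)
  have hBJ : B ∈ maximalIdeal R * J := by
    have hl2 : l ^ 2 ∈ J := J.pow_mem_of_mem hl 2 two_pos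
    rw [hB]
    refine Ideal.add_mem _ (Ideal.add_mem _ (Ideal.sub_mem _ (Ideal.add_mem _ (Submodule.neg_mem _ (mem_mul_left hI.a₁ hl))
      (mem_mul_left hI.a₂ hνJ)) (mem_mul_left hI.a₃ hl2)) ?_) ?_
    · exact mem_mul_left (Ideal.mul_mem_left _ _ hI.a₄) (Ideal.mul_mem_left _ _ hνJ)
    · exact mem_mul_left (Ideal.mul_mem_left _ _ hI.a₆) (Ideal.mul_mem_left _ _ hνJ)
  set z₃ := -z₁ - z₂ - B * ↑A⁻¹ with hz₃
  set w₃ := l * z₃ + ν with hw₃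
  set x₃ := W.toAffine.addX x₁ x₂ m with hx₃
  set y₃ := W.toAffine.negAddY x₁ x₂ y₁ m with hy₃
  have hy3c : y₃ = m * x₃ + c := by
    rw [hy₃, hc, Affine.negAddY, ← hx₃]; ring
  -- Vieta
  have hcub := Affine.addPolynomial_slope h₁.1 h₂.1 hxy
  rw [← hm, Affine.addPolynomial_eq, neg_inj, Cubic.prod_X_sub_C_eq, Cubic.toPoly_injective] at hcub
  have hs2 := congrArg Cubic.c hcub
  have hs3 := congrArg Cubic.d hcub
  simp only at hs2 hs3
  rw [← hx₃] at hs2 hs3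
  have hy₂c : y₂ = m * x₂ + c := by
    by_cases hx : x₁ = x₂
    · have hy : y₁ ≠ W.toAffine.negY x₂ y₂ := fun hy => hxy ⟨hx, hy⟩
      rw [← Affine.Y_eq_of_Y_ne h₁.1 h₂.1 hx hy, hc, ← hx]; ring
    · rw [hc, hm, Affine.slope_of_X_ne hx]
      field_simp [sub_ne_zero.2 hx]
      ring
  have hy₁c : y₁ = m * x₁ + c := by rw [hc]; ring
  have hs2' : x₁ * x₂ + x₁ * x₃ + x₂ * x₃ = -(2 * m * c + W.a₁ * c + W.a₃ * m - W.a₄) := by
    rw [hc]; linear_combination -hs2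
  have hs3' : x₁ * x₂ * x₃ = c ^ 2 + W.a₃ * c - W.a₆ := by
    rw [hc]; linear_combination hs3
  have hs1 : x₁ + x₂ + x₃ = m ^ 2 + W.a₁ * m - W.a₂ := by
    rw [hx₃, Affine.addX]; ring
  set q := algebraMap R K with hq
  have hqA : q (A : R) = 1 + (W.a₂ * q l + W.a₄ * q l ^ 2 + W.a₆ * q l ^ 3) := by
    rw [hA]; simp only [map_add, map_one, map_mul, map_pow, e2, e4, e6]
  have hqB : q B = -(W.a₁ * q l) + W.a₂ * q ν - W.a₃ * q l ^ 2 + 2 * W.a₄ * (q l * q ν) +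
      3 * W.a₆ * (q l ^ 2 * q ν) := by
    rw [hB]; simp only [map_add, map_sub, map_neg, map_mul, map_pow, map_ofNat, e1, e2, e3, e4, e6]
  have hprod : y₁ * y₂ * y₃ = c ^ 3 * q (A : R) := by
    rw [hy₁c, hy₂c, hy3c, hqA, hmc]
    rw [hmc] at hs1 hs2'
    linear_combination (c ^ 2 * (-(c * q l))) * hs1 + (c * (-(c * q l)) ^ 2) * hs2' + (-(c * q l)) ^ 3 * hs3'
  have hy₃0 : y₃ ≠ 0 := by
    intro h0
    rw [h0, mul_zero] at hprod
    exact mul_ne_zero (pow_ne_zero 3 hc0) (A.isUnit.map q).ne_zero hprod.symm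
  have hsum : x₁ * (y₂ * y₃) + x₂ * (y₁ * y₃) + x₃ * (y₁ * y₂) = -(c ^ 3 * q B) := by
    rw [hy₁c, hy₂c, hy3c, hqB, hmc]
    rw [hmc] at hs1 hs2'
    linear_combination (c ^ 2) * hs1 + (2 * c * (-(c * q l))) * hs2' + (3 * (-(c * q l)) ^ 2) * hs3' +
      (W.a₂ * c ^ 2 + 2 * W.a₄ * c ^ 2 * q l + 3 * W.a₆ * c ^ 2 * q l ^ 2) * hcν
  have hz : q z₃ * y₃ = x₃ := by
    have hA' : q (A : R) * q ↑A⁻¹ = 1 := by rw [← map_mul, A.mul_inv, map_one]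
    have : (q z₃ * y₃ - x₃) * (y₁ * y₂) = 0 := by
      rw [hz₃, map_sub, map_sub, map_neg, map_mul, hx₁, hx₂]
      linear_combination (-(q B * q ↑A⁻¹)) * hprod - hsum + (-(x₁ * y₂ * y₃)) * hy₁ + (-(x₂ * y₁ * y₃)) * hy₂
        + (-(c ^ 3 * q B)) * hA'
    exact sub_eq_zero.1 ((mul_eq_zero.1 this).resolve_right
      (mul_ne_zero (left_ne_zero_of_mul_eq_one hy₁) (left_ne_zero_of_mul_eq_one hy₂)))
  have hw : y₃ * q w₃ = 1 := by
    rw [hw₃, map_add, map_mul]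
    linear_combination (q l) * hz + (q ν) * hy3c + (q ν * x₃) * hmc + (1 - q l * x₃) * hcν
  refine ⟨z₃, Or.inr ⟨_, _, _, w₃, rfl, hw, ?_⟩, ?_⟩
  · change q z₃ = x₃ * q w₃
    linear_combination (-q z₃) * hw + (q w₃) * hz
  · have : z₁ + z₂ + z₃ = -(B * ↑A⁻¹) := by rw [hz₃]; ring
    rw [this]
    exact Submodule.neg_mem _ (Ideal.mul_mem_right _ _ hBJ)

include hW hI in
theorem ev_add {P Q : W.toAffine.Point} {z₁ z₂ : R} (hP : Ev W P z₁) (hQ : Ev W Q z₂) {J : Ideal R}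
    (hz₁ : z₁ ∈ J) (hz₂ : z₂ ∈ J) : ∃ z₃, Ev W (P + Q) z₃ ∧ z₃ - (z₁ + z₂) ∈ maximalIdeal R * J := by
  rcases hP with ⟨rfl, rfl⟩ | ⟨x₁, y₁, h₁, w₁, rfl, hy₁, hx₁⟩
  · exact ⟨z₂, (zero_add Q).symm ▸ hQ, by simp⟩
  rcases hQ with ⟨rfl, rfl⟩ | ⟨x₂, y₂, h₂, w₂, rfl, hy₂, hx₂⟩
  · exact ⟨z₁, Or.inr ⟨x₁, y₁, h₁, w₁, add_zero _, hy₁, hx₁⟩, by simp⟩
  obtain ⟨e1, e2, e3, e4, e6⟩ := coeffs hW
  set P₁ : W.toAffine.Point := .some x₁ y₁ h₁
  by_cases hxy : x₁ = x₂ ∧ y₁ = W.toAffine.negY x₂ y₂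
  · have hPQ := Affine.Point.add_of_Y_eq (h₁ := h₁) (h₂ := h₂) hxy.1 hxy.2
    refine ⟨0, Or.inl ⟨hPQ, rfl⟩, ?_⟩
    obtain ⟨z', hz', hmem⟩ := ev_neg hW hI (z := z₂) (Or.inr ⟨x₂, y₂, h₂, w₂, rfl, hy₂, hx₂⟩) hz₂
    rcases hz' with ⟨h0, -⟩ | ⟨x, y, h, w, hneg, hy, hx⟩
    · rw [Affine.Point.neg_some] at h0; exact absurd h0 (Affine.Point.some_ne_zero _)
    · rw [Affine.Point.neg_some, Affine.Point.some.injEq] at hneg
      obtain ⟨rfl, rfl⟩ := hneg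
      rw [← hxy.2] at hy
      have hw : algebraMap R K w = algebraMap R K w₁ :=
        mul_left_cancel₀ (left_ne_zero_of_mul_eq_one hy) (hy.trans hy₁.symm)
      have : z' = z₁ := FaithfulSMul.algebraMap_injective R K (by rw [hx, hx₁, hw, hxy.1])
      subst this
      simpa [sub_eq_add_neg] using Submodule.neg_mem _ hmem
  rw [Affine.Point.add_some hxy]
  have key : ∃ l ∈ J, (y₁ - W.toAffine.slope x₁ x₂ y₁ y₂ * x₁) * algebraMap R K l =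
      -W.toAffine.slope x₁ x₂ y₁ y₂ := by
    have c₁ := onChart_of_eq hW h₁.1 hy₁ hx₁
    have c₂ := onChart_of_eq hW h₂.1 hy₂ hx₂
    by_cases hx : x₁ = x₂
    · have hy : y₁ ≠ W.toAffine.negY x₂ y₂ := fun hy => hxy ⟨hx, hy⟩
      have hyy := Affine.Y_eq_of_Y_ne h₁.1 h₂.1 hx hy
      subst hx hyy
      obtain ⟨hu, l, hl, hN⟩ := exists_line_tangent hI c₁ hz₁
      refine ⟨l, hl, ?_⟩
      have hd : y₁ - W.toAffine.negY x₁ y₁ ≠ 0 := sub_ne_zero.2 hy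
      have hD := congrArg (algebraMap R K) hN
      simp only [map_add, map_sub, map_mul, map_one, map_pow, map_ofNat, e1, e2, e3, e4, e6, hx₁] at hD
      rw [Affine.slope_of_Y_ne rfl hy]
      have he := (Affine.equation_iff x₁ y₁).1 h₁.1
      generalize algebraMap R K l = L at hD ⊢
      generalize algebraMap R K w₁ = w at hy₁ hD
      set num := 3 * x₁ ^ 2 + 2 * W.a₂ * x₁ + W.a₄ - W.a₁ * y₁ with hnum
      set den := y₁ - W.toAffine.negY x₁ y₁ with hden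
      have hD2 : num = L * (y₁ ^ 2 + W.a₁ * x₁ * y₁ - W.a₂ * x₁ ^ 2 + 2 * W.a₃ * y₁ - 2 * W.a₄ * x₁ - 3 * W.a₆) := by
        rw [hnum]
        linear_combination y₁ ^ 2 * hD - ((3 * x₁ ^ 2 + 2 * W.a₂ * x₁ + W.a₄ +
          L * (W.a₂ * x₁ ^ 2 + 2 * W.a₄ * x₁ + 3 * W.a₆)) * (y₁ * w + 1) - W.a₁ * y₁ -
          L * (W.a₁ * x₁ * y₁ + 2 * W.a₃ * y₁)) * hy₁
      have key : (y₁ * den - num * x₁) * L = -num := by
        rw [hden, Affine.negY]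
        rw [hnum] at hD2 ⊢
        linear_combination hD2 + 3 * L * he
      have hdiv : den * (num / den) = num := mul_div_cancel₀ _ hd
      apply mul_left_cancel₀ hd
      linear_combination key + (1 - x₁ * L) * hdiv
    · obtain ⟨l, hl, hlin⟩ := exists_line_secant hI c₁ c₂ hz₁ hz₂
      refine ⟨l, hl, ?_⟩
      have hne : algebraMap R K z₁ - algebraMap R K z₂ ≠ 0 := by
        intro h0
        have hz : z₁ = z₂ := FaithfulSMul.algebraMap_injective R K (sub_eq_zero.1 h0)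
        subst hz
        obtain rfl := eq_of_onChart hI c₁ c₂
        exact hx (mul_right_cancel₀ (right_ne_zero_of_mul_eq_one hy₁) (hx₁.symm.trans hx₂))
      apply mul_right_cancel₀ hne
      have hlin' := congrArg (algebraMap R K) hlin
      simp only [map_sub, map_mul] at hlin'
      set m := W.toAffine.slope x₁ x₂ y₁ y₂ with hm
      have hy₂c : y₂ - m * x₂ = y₁ - m * x₁ := by
        rw [hm, Affine.slope_of_X_ne hx]
        field_simp [sub_ne_zero.2 hx]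
        ring
      linear_combination (y₁ - m * x₁) * (-hlin') + hy₁ - hy₂ + (algebraMap R K w₂) * hy₂c + m * (hx₁ - hx₂)
  obtain ⟨l, hl, hline⟩ := key
  obtain ⟨z₃, hz₃, hsum⟩ := ev_third hW hI h₁ h₂ hxy hy₁ hx₁ hy₂ hx₂ hz₁ hl hline
  have hz₃J : z₃ ∈ J := by
    have := Ideal.sub_mem _ (Ideal.mul_le_right hsum) (Ideal.add_mem _ hz₁ hz₂)
    simpa [add_sub_cancel_left] using this
  obtain ⟨z₄, hz₄, hneg⟩ := ev_neg hW hI hz₃ hz₃J
  refine ⟨z₄, ?_, ?_⟩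
  · rwa [Affine.Point.neg_some] at hz₄
  · have : z₄ - (z₁ + z₂) = (z₄ + z₃) - (z₁ + z₂ + z₃) := by ring
    rw [this]
    exact Ideal.sub_mem _ hneg hsum

include hW hI in
theorem ev_nsmul {P : W.toAffine.Point} {z : R} (hP : Ev W P z) :
    ∀ k : ℕ, ∃ z', Ev W (k • P) z' ∧ z' - k * z ∈ maximalIdeal R * Ideal.span {z}
  | 0 => ⟨0, Or.inl ⟨zero_nsmul P, rfl⟩, by simp⟩
  | k + 1 => by
    obtain ⟨z', hz', hk⟩ := ev_nsmul hP k
    have hzJ : z ∈ Ideal.span {z} := Ideal.mem_span_singleton_self z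
    have hz'J : z' ∈ Ideal.span {z} := by
      have := Ideal.add_mem _ (Ideal.mul_le_right hk) (Ideal.mul_mem_left _ (k : R) hzJ)
      rwa [sub_add_cancel] at this
    obtain ⟨z₃, hz₃, h3⟩ := ev_add hW hI hz' hP hz'J hzJ
    refine ⟨z₃, by rwa [succ_nsmul], ?_⟩
    have : z₃ - ((k + 1 : ℕ) : R) * z = (z₃ - (z' + z)) + (z' - k * z) := by push_cast; ring
    rw [this]
    exact Ideal.add_mem _ h3 hk

include hW hI in
/-- A point with regular reduction killed by a unit integer is zero. -/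
theorem eq_zero_of_ev {P : W.toAffine.Point} {z : R} (hP : Ev W P z) {n : ℕ} (hn : IsUnit (n : R))
    (h0 : n • P = 0) : P = 0 := by
  obtain ⟨z', hz', hmem⟩ := ev_nsmul hW hI hP n
  rw [h0] at hz'
  rcases hz' with ⟨-, rfl⟩ | ⟨x, y, h, w, h1, -, -⟩
  swap
  · exact absurd h1.symm (Affine.Point.some_ne_zero _)
  rw [zero_sub, Submodule.neg_mem_iff, Ideal.mem_mul_span_singleton] at hmem
  obtain ⟨c, hc, hcz⟩ := hmem
  have hz : z = 0 := by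
    have hu : IsUnit ((n : R) - c) := by
      by_contra hnu
      have h' := Ideal.add_mem _ ((IsLocalRing.mem_maximalIdeal _).2 hnu) hc
      rw [sub_add_cancel] at h'
      exact (IsLocalRing.mem_maximalIdeal _).1 h' hn
    refine hu.mul_right_eq_zero.1 ?_
    linear_combination -hcz
  subst hz
  rcases hP with ⟨rfl, -⟩ | ⟨x, y, h, w, rfl, hy, hx⟩
  · rfl
  exfalso
  have hw : w = 0 := Submodule.mem_bot R |>.1 (mem_of_onChart hI (onChart_of_eq hW h.1 hy hx) (J := ⊥) (by simp))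
  simp [hw] at hy

end

end Groth.Agent.H9EllAdd
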