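import Groth.Agent.H9EllAdd.Change
import Groth.Agent.H9EllAdd.Regular

/-!
A rational point of order `> 4`, prime to the residue characteristic, forces semistable reduction.
-/

universe u

namespace Groth.Agent.H9EllAdd

open WeierstrassCurve IsLocalRing

/-- A singular cubic with `c₄ = 0` over an algebraically closed field is `y² = x³`. -/
theorem exists_cusp_form {k : Type*} [Field k] [IsAlgClosed k] (W : WeierstrassCurve k)
    (hΔ : W.Δ = 0) (hc : W.c₄ = 0) :
    ∃ r s t : k,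
      ((VariableChange.mk 1 r s t : VariableChange k) • W).a₁ = 0 ∧
      ((VariableChange.mk 1 r s t : VariableChange k) • W).a₂ = 0 ∧
      ((VariableChange.mk 1 r s t : VariableChange k) • W).a₃ = 0 ∧
      ((VariableChange.mk 1 r s t : VariableChange k) • W).a₄ = 0 ∧
      ((VariableChange.mk 1 r s t : VariableChange k) • W).a₆ = 0 := by
  by_cases h2 : (2 : k) = 0
  · have h1 : W.a₁ = 0 := by
      have : W.a₁ ^ 4 = 0 := by
        simp only [c₄, b₂, b₄] at hc
        linear_combination hc + (-4 * W.a₁ ^ 2 * W.a₂ - 8 * W.a₂ ^ 2 + 24 * W.a₄ + 12 * W.a₁ * W.a₃) * h2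
      simpa using this
    have h3 : W.a₃ = 0 := by
      have : W.a₃ ^ 4 = 0 := by
        simp only [Δ, b₂, b₄, b₆, b₈, h1] at hΔ
        linear_combination hΔ + (14 * W.a₃ ^ 4 + 108 * W.a₃ ^ 2 * W.a₆ + 216 * W.a₆ ^ 2 +
          8 * W.a₂ ^ 2 * (4 * W.a₂ * W.a₆ + W.a₂ * W.a₃ ^ 2 - W.a₄ ^ 2) + 32 * W.a₄ ^ 3 -
          36 * W.a₂ * W.a₄ * (W.a₃ ^ 2 + 4 * W.a₆)) * h2
      simpa using this
    obtain ⟨r, hr⟩ := IsAlgClosed.exists_pow_nat_eq W.a₄ two_pos
    obtain ⟨s, hs⟩ := IsAlgClosed.exists_pow_nat_eq (W.a₂ + 3 * r) two_pos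
    obtain ⟨t, ht⟩ := IsAlgClosed.exists_pow_nat_eq (W.a₆ + r * W.a₄ + r ^ 2 * W.a₂ + r ^ 3) two_pos
    refine ⟨r, s, t, ?_, ?_, ?_, ?_, ?_⟩
    · simp [variableChange_a₁, h1, h2]
    · simp [variableChange_a₂, h1]; linear_combination -hs
    · simp [variableChange_a₃, h1, h3, h2]
    · simp [variableChange_a₄, h1, h3, h2]; linear_combination (-1) * hr + 2 * r ^ 2 * h2
    · simp [variableChange_a₆, h1, h3]; linear_combination -ht
  · obtain ⟨r, hr⟩ := IsAlgClosed.exists_root
      (Cubic.toPoly ⟨4, W.b₂, 2 * W.b₄, W.b₆⟩)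
      (by
        have h4 : (4 : k) ≠ 0 := by
          have := mul_ne_zero h2 h2
          norm_num at this
          exact this
        rw [Cubic.degree_of_a_ne_zero (P := ⟨4, W.b₂, 2 * W.b₄, W.b₆⟩) h4]
        decide)
    refine ⟨r, -W.a₁ / 2, -(W.a₃ + r * W.a₁) / 2, ?_⟩
    set V := (VariableChange.mk 1 r (-W.a₁ / 2) (-(W.a₃ + r * W.a₁) / 2) : VariableChange k) • W with hV
    have e1 : V.a₁ = 0 := by simp [hV, variableChange_a₁]; field_simp; ring
    have e3 : V.a₃ = 0 := by simp [hV, variableChange_a₃]; field_simp; ring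
    have e6 : V.b₆ = 0 := by
      simp only [Cubic.toPoly, Polynomial.IsRoot.def, Polynomial.eval_add, Polynomial.eval_mul, Polynomial.eval_C,
        Polynomial.eval_pow, Polynomial.eval_X] at hr
      rw [hV, variableChange_b₆]
      simp only [inv_one, Units.val_one, one_pow, one_mul]
      linear_combination hr
    have hVc : V.c₄ = 0 := by rw [hV, variableChange_c₄, hc, mul_zero]
    have hVΔ : V.Δ = 0 := by rw [hV, variableChange_Δ, hΔ, mul_zero]
    have h4 : V.b₄ = 0 := by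
      have : (8 : k) * V.b₄ ^ 3 = 0 := by
        have h8 : 4 * V.b₈ = -V.b₄ ^ 2 := by rw [V.b_relation, e6]; ring
        simp only [Δ, e6] at hVΔ
        simp only [c₄] at hVc
        linear_combination (-4) * hVΔ - V.b₂ ^ 2 * h8 + V.b₄ ^ 2 * hVc
      have h8 : (8 : k) ≠ 0 := by
        have := mul_ne_zero (mul_ne_zero h2 h2) h2
        norm_num at this
        exact this
      simpa [h8] using this
    have h22 : V.b₂ = 0 := by
      simp only [c₄, h4] at hVc
      simpa using hVc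
    simp only [b₂, b₄, b₆, e1, e3] at h22 h4 e6
    have h4' : (4 : k) ≠ 0 := by
      have := mul_ne_zero h2 h2
      norm_num at this
      exact this
    exact ⟨e1, by simpa [h4'] using h22, e3, by simpa [h2] using h4, by simpa [h4'] using e6⟩

variable {R : Type u} [CommRing R] [IsDomain R] [IsDiscreteValuationRing R] {K : Type u} [Field K] [DecidableEq K]
  [Algebra R K] [IsFractionRing R K]

theorem exists_lift_of_monic_cubic {x : K} (b c d : R)
    (h : x ^ 3 + algebraMap R K b * x ^ 2 + algebraMap R K c * x + algebraMap R K d = 0) :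
    ∃ a : R, algebraMap R K a = x :=
  IsIntegrallyClosed.isIntegral_iff.1 ⟨Cubic.toPoly ⟨1, b, c, d⟩, Cubic.monic_of_a_eq_one rfl, by
    simpa [Cubic.toPoly] using h⟩

variable {I : WeierstrassCurve R} {W : WeierstrassCurve K}

/-- A point has regular reduction or reduces to the cusp. -/
theorem ev_or_singular (hW : I.map (algebraMap R K) = W) (hI : Cusp I) {x y : K}
    (h : W.toAffine.Nonsingular x y) :
    (∃ z : R, Ev W (.some x y h) z) ∨
      ∃ a b : R, a ∈ maximalIdeal R ∧ b ∈ maximalIdeal R ∧ algebraMap R K a = x ∧ algebraMap R K b = y := by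
  obtain ⟨e1, e2, e3, e4, e6⟩ := coeffs hW
  have he := (Affine.equation_iff x y).1 h.1
  have hw : ∀ w : R, y * algebraMap R K w = 1 → ∃ z : R, Ev W (.some x y h) z := fun w hw => by
    obtain ⟨z, hz⟩ := exists_lift_of_monic_cubic (x := x * algebraMap R K w) (I.a₂ * w)
      (I.a₄ * w ^ 2 - I.a₁ * w) (I.a₆ * w ^ 3 - I.a₃ * w ^ 2 - w) (by
        simp only [map_mul, map_sub, map_pow, e1, e2, e3, e4, e6]
        linear_combination (-(algebraMap R K w) ^ 3) * he +
          (algebraMap R K w * (y * algebraMap R K w + 1) + W.a₁ * x * (algebraMap R K w) ^ 2 +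
            W.a₃ * (algebraMap R K w) ^ 2) * hw)
    exact ⟨z, Or.inr ⟨x, y, h, w, rfl, hw, hz⟩⟩
  by_cases hy0 : y = 0
  · right
    obtain ⟨a, ha⟩ := exists_lift_of_monic_cubic (x := x) I.a₂ I.a₄ I.a₆ (by
      rw [e2, e4, e6]; rw [hy0] at he; linear_combination -he)
    refine ⟨a, 0, (IsLocalRing.maximalIdeal.isMaximal R).isPrime.mem_of_pow_mem 3 ?_, Ideal.zero_mem _, ha, by
      rw [map_zero, hy0]⟩
    have : a ^ 3 = -(I.a₂ * a ^ 2 + I.a₄ * a + I.a₆) := by
      apply IsFractionRing.injective R K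
      simp only [map_pow, map_add, map_neg, map_mul, ha, e2, e4, e6]
      rw [hy0] at he; linear_combination -he
    rw [this]
    exact Submodule.neg_mem _ (Ideal.add_mem _ (Ideal.add_mem _ (Ideal.mul_mem_right _ _ hI.a₂)
      (Ideal.mul_mem_right _ _ hI.a₄)) hI.a₆)
  rcases ValuationRing.isInteger_or_isInteger R y with ⟨b, hb⟩ | ⟨w, hw'⟩
  · by_cases hbu : IsUnit b
    · obtain ⟨v, rfl⟩ := hbu
      exact Or.inl (hw (↑v⁻¹ : R) (by rw [← hb, ← map_mul, v.mul_inv, map_one]))
    have hbm : b ∈ maximalIdeal R := (IsLocalRing.mem_maximalIdeal _).2 hbu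
    right
    obtain ⟨a, ha⟩ := exists_lift_of_monic_cubic (x := x) I.a₂ (I.a₄ - I.a₁ * b) (I.a₆ - b ^ 2 - I.a₃ * b) (by
      simp only [map_mul, map_sub, map_pow, e1, e2, e3, e4, e6, hb]
      linear_combination -he)
    refine ⟨a, b, (IsLocalRing.maximalIdeal.isMaximal R).isPrime.mem_of_pow_mem 3 ?_, hbm, ha, hb⟩
    have : a ^ 3 = b ^ 2 + I.a₁ * a * b + I.a₃ * b - I.a₂ * a ^ 2 - I.a₄ * a - I.a₆ := by
      apply IsFractionRing.injective R K
      simp only [map_pow, map_add, map_sub, map_mul, ha, hb, e1, e2, e3, e4, e6]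
      linear_combination -he
    rw [this]
    exact Ideal.sub_mem _ (Ideal.sub_mem _ (Ideal.sub_mem _ (Ideal.add_mem _ (Ideal.add_mem _
      (Ideal.pow_mem_of_mem _ hbm 2 two_pos) (Ideal.mul_mem_left _ _ hbm)) (Ideal.mul_mem_left _ _ hbm))
      (Ideal.mul_mem_right _ _ hI.a₂)) (Ideal.mul_mem_right _ _ hI.a₄)) hI.a₆
  · exact Or.inl (hw w (by rw [hw']; exact mul_inv_cancel₀ hy0))

/-- Non-zero multiples of a torsion point of order prime to the residue characteristic reduce to the cusp. -/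
theorem singular_of_torsion (hW : I.map (algebraMap R K) = W) (hI : Cusp I) {n : ℕ} (hn : IsUnit (n : R))
    {x y : K} (h : W.toAffine.Nonsingular x y) (h0 : n • (Affine.Point.some x y h) = 0) :
    ∃ a b : R, a ∈ maximalIdeal R ∧ b ∈ maximalIdeal R ∧ algebraMap R K a = x ∧ algebraMap R K b = y :=
  (ev_or_singular hW hI h).resolve_left fun ⟨_, hz⟩ =>
    Affine.Point.some_ne_zero h (eq_zero_of_ev hW hI hz hn h0)

theorem mem_of_quadratic {x : K} {a b : R} (ha : a ∈ maximalIdeal R) (hb : b ∈ maximalIdeal R)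
    (h : x ^ 2 + algebraMap R K a * x = algebraMap R K b) : ∃ c ∈ maximalIdeal R, algebraMap R K c = x := by
  obtain ⟨c, hc⟩ := exists_lift_of_monic_cubic (x := x) a (-b) (0 : R) (by
    rw [map_neg, map_zero]; linear_combination x * h)
  refine ⟨c, (IsLocalRing.maximalIdeal.isMaximal R).isPrime.mem_of_pow_mem 2 ?_, hc⟩
  have : c ^ 2 = b - a * c := by
    apply IsFractionRing.injective R K
    simp only [map_pow, map_sub, map_mul, hc]
    linear_combination h
  rw [this]
  exact Ideal.sub_mem _ hb (Ideal.mul_mem_right _ _ ha)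

omit [DecidableEq K] in
theorem shift_cusp (hI : Cusp I) {r s t : R} (hr : r ∈ maximalIdeal R) (hs : s ∈ maximalIdeal R)
    (ht : t ∈ maximalIdeal R) : Cusp ((VariableChange.mk 1 r s t : VariableChange R) • I) := by
  have h1 := hI.a₁; have h2 := hI.a₂; have h3 := hI.a₃; have h4 := hI.a₄; have h6 := hI.a₆
  constructor <;>
    simp only [variableChange_a₁, variableChange_a₂, variableChange_a₃, variableChange_a₄, variableChange_a₆,
      inv_one, Units.val_one, one_pow, one_mul] <;>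
    rw [← Ideal.Quotient.eq_zero_iff_mem] at * <;>
    simp [h1, h2, h3, h4, h6, hr, hs, ht]

/-- In a cuspidal model no point of order `> 4` prime to the residue characteristic exists, unless the
model is not minimal. -/
theorem exists_smaller_of_cusp [W.IsElliptic] (hW : I.map (algebraMap R K) = W) (hI : Cusp I) {n : ℕ}
    (hn4 : 4 < n) (hn : IsUnit (n : R)) (P : W.toAffine.Point) (hP : addOrderOf P = n) {π : R}
    (hπ : Irreducible π) :
    ∃ (C : VariableChange K), IsIntegral R (C • W) ∧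
      (C • W).Δ * algebraMap R K π ^ 12 = W.Δ := by
  have hk : ∀ k : ℕ, 0 < k → k < 5 → k • P ≠ 0 := fun k h0 h5 h =>
    absurd (Nat.le_of_dvd h0 (hP ▸ addOrderOf_dvd_of_nsmul_eq_zero h)) (by omega)
  have hnP : ∀ k : ℕ, n • (k • P) = 0 := fun k => by
    rw [← mul_nsmul', Nat.mul_comm, mul_nsmul', ← hP, addOrderOf_nsmul_eq_zero, nsmul_zero]
  rcases P with _ | ⟨x0, y0, h0⟩
  · exact absurd (one_nsmul _) (hk 1 one_pos (by norm_num))
  obtain ⟨a, b, ha, hb, hax, hby⟩ := singular_of_torsion hW hI hn h0 (by simpa using hnP 1)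
  -- slope at `P`
  have hy0 : y0 ≠ W.toAffine.negY x0 y0 := fun h => hk 2 two_pos (by norm_num)
    (by rw [two_nsmul]; exact Affine.Point.add_self_of_Y_eq h)
  set L := W.toAffine.slope x0 x0 y0 y0 with hL
  obtain ⟨e1, e2, e3, e4, e6⟩ := coeffs hW
  have h2P := hnP 2
  rw [two_nsmul, Affine.Point.add_self_of_Y_ne hy0] at h2P
  obtain ⟨a', b', ha', -, hax', -⟩ := singular_of_torsion hW hI hn _ h2P
  obtain ⟨l, hl, hlL⟩ := mem_of_quadratic (x := L) hI.a₁ (b := a' + I.a₂ + a + a)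
    (Ideal.add_mem _ (Ideal.add_mem _ (Ideal.add_mem _ ha' hI.a₂) ha) ha) (by
      simp only [map_add, e1, e2, hax, hax', Affine.addX]
      ring)
  -- move `P` to the origin with horizontal tangent
  let q := algebraMap R K
  let I₂ : WeierstrassCurve R := (VariableChange.mk 1 a l b : VariableChange R) • I
  have hI₂ : Cusp I₂ := shift_cusp hI ha hl hb
  have hW₂ : I₂.map q = shift W (q a) (q l) (q b) := by
    subst hW
    ext <;> simp [I₂, q, variableChange_a₁, variableChange_a₂, variableChange_a₃, variableChange_a₄,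
      variableChange_a₆, map_add, map_sub, map_mul, map_ofNat]
  set W₂ := shift W (q a) (q l) (q b) with hW₂def
  obtain ⟨h0', hf⟩ := shiftHom_some (W := W) (q a) (q l) (q b) h0
  have hk₂ : ∀ k : ℕ, 0 < k → k < 5 → k • shiftHom (W := W) (q a) (q l) (q b) (.some x0 y0 h0) ≠ 0 := fun k h h' e =>
    hk k h h' (shiftHom_injective (W := W) (q a) (q l) (q b) (by rw [map_nsmul, map_zero]; exact e))
  have hnP₂ : ∀ k : ℕ, n • (k • shiftHom (W := W) (q a) (q l) (q b) (.some x0 y0 h0)) = 0 := fun k => by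
    rw [← map_nsmul, ← map_nsmul, hnP, map_zero]
  have hfz : ∃ h, shiftHom (W := W) (q a) (q l) (q b) (.some x0 y0 h0) = Affine.Point.some (W' := W₂.toAffine) 0 0 h := by
    refine ⟨?_, ?_⟩
    · have := h0'
      rwa [show x0 - q a = 0 by simp [q, hax], show y0 - q l * 0 - q b = 0 by simp [q, hby]] at this
    · rw [hf]
      simp [q, hax, hby]
  obtain ⟨h00, hf0⟩ := hfz
  rw [hf0] at hk₂ hnP₂
  clear hf0 hf h0'
  have a6z : W₂.a₆ = 0 := Affine.equation_zero.1 h00.1
  have a4z : W₂.a₄ = 0 := by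
    rw [hW₂def, shift_a₄]
    simp only [q, hax, hby, hlL]
    have hd : y0 - W.toAffine.negY x0 y0 ≠ 0 := sub_ne_zero.2 hy0
    have hS : (y0 - W.toAffine.negY x0 y0) * L = 3 * x0 ^ 2 + 2 * W.a₂ * x0 + W.a₄ - W.a₁ * y0 := by
      rw [hL, Affine.slope_of_Y_ne rfl hy0]
      exact mul_div_cancel₀ _ hd
    simp only [Affine.negY] at hS
    linear_combination -hS
  obtain ⟨f1, f2, f3, f4, f6⟩ := coeffs hW₂
  have hne : (0 : K) ≠ W₂.toAffine.negY 0 0 := fun h => hk₂ 2 two_pos (by norm_num)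
    (by rw [two_nsmul]; exact Affine.Point.add_self_of_Y_eq h)
  have a3ne : W₂.a₃ ≠ 0 := fun h => hne (by simp [Affine.negY, h])
  have sl0 : W₂.toAffine.slope 0 0 0 0 = 0 := by
    rw [Affine.slope_of_Y_ne rfl hne]
    simp [show W₂.toAffine.a₄ = 0 from a4z]
  -- `2P`
  have hQ : ∃ h, 2 • Affine.Point.some 0 0 h00 =
      Affine.Point.some (W' := W₂.toAffine) (-W₂.a₂) (W₂.a₁ * W₂.a₂ - W₂.a₃) h := by
    have key := Affine.Point.add_self_of_Y_ne (h₁ := h00) hne
    simp only [sl0, Affine.addX, Affine.addY, Affine.negAddY, Affine.negY] at key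
    refine ⟨?_, ?_⟩
    · have := Affine.nonsingular_add h00 h00 fun h => hne h.2
      simp only [sl0, Affine.addX, Affine.addY, Affine.negAddY, Affine.negY] at this
      convert this using 1 <;> ring
    · rw [two_nsmul, key]
      simp only [Affine.Point.some.injEq]
      constructor <;> ring
  obtain ⟨h2Q, hQ⟩ := hQ
  have a2ne : W₂.a₂ ≠ 0 := by
    intro h
    refine hk₂ 3 (by norm_num) (by norm_num) ?_
    rw [succ_nsmul, hQ]
    exact Affine.Point.add_of_Y_eq (by simp [h]) (by simp [Affine.negY, h])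
  -- `3P`
  have hx23 : -W₂.a₂ ≠ (0 : K) := neg_ne_zero.2 a2ne
  have h3 := hnP₂ 3
  rw [succ_nsmul (n := 2), hQ, Affine.Point.add_of_X_ne hx23] at h3
  obtain ⟨c3, -, hc3, -, hc3x, -⟩ := singular_of_torsion hW₂ hI₂ hn _ h3
  rw [Affine.slope_of_X_ne hx23] at hc3x
  obtain ⟨μ, hμ, hμK⟩ := mem_of_quadratic (x := W₂.a₃ / W₂.a₂) ((maximalIdeal R).neg_mem hI₂.a₁) hc3 (by
    rw [hc3x, map_neg, f1]
    simp only [Affine.addX]
    field_simp
    ring)
  -- `4P`
  have hyQ : W₂.a₁ * W₂.a₂ - W₂.a₃ ≠ W₂.toAffine.negY (-W₂.a₂) (W₂.a₁ * W₂.a₂ - W₂.a₃) := fun h =>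
    hk₂ 4 (by norm_num) (by norm_num) (by
      rw [show 4 = 2 * 2 from rfl, mul_nsmul, two_nsmul, two_nsmul] at *
      rw [hQ]; exact Affine.Point.add_self_of_Y_eq h)
  have hd0 : W₂.a₁ * W₂.a₂ - W₂.a₃ ≠ 0 := fun h => hyQ (by
    simp only [Affine.negY]; linear_combination h)
  have h4 := hnP₂ 4
  rw [show 4 = 2 * 2 from rfl, mul_nsmul, hQ, two_nsmul, Affine.Point.add_self_of_Y_ne hyQ] at h4
  obtain ⟨c4, -, hc4, -, hc4x, -⟩ := singular_of_torsion hW₂ hI₂ hn _ h4
  obtain ⟨ν, hν, hνK⟩ := mem_of_quadratic (x := W₂.a₂ ^ 2 / (W₂.a₁ * W₂.a₂ - W₂.a₃))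
    ((maximalIdeal R).neg_mem hI₂.a₁) (Ideal.sub_mem _ hc4 hI₂.a₂) (by
    rw [Affine.slope_of_Y_ne rfl hyQ] at hc4x
    rw [map_sub, hc4x, map_neg, f1, f2]
    have a4z' : W₂.toAffine.a₄ = 0 := a4z
    simp only [Affine.addX, Affine.negY, a4z']
    have : W₂.a₁ * W₂.a₂ - W₂.a₃ - (-(W₂.a₁ * W₂.a₂ - W₂.a₃) - W₂.a₁ * -W₂.a₂ - W₂.a₃) =
        W₂.a₁ * W₂.a₂ - W₂.a₃ := by ring
    rw [this]
    field_simp
    ring)
  have e3' : I₂.a₃ = μ * I₂.a₂ := by
    apply IsFractionRing.injective R K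
    rw [map_mul, hμK, f2, f3]; field_simp
  have e2' : I₂.a₂ = ν * (I₂.a₁ - μ) := by
    apply IsFractionRing.injective R K
    rw [map_mul, map_sub, hνK, hμK, f1, f2]
    have hd0' : W₂.a₂ * W₂.a₁ - W₂.a₃ ≠ 0 := by rwa [mul_comm]
    field_simp
  have hm : maximalIdeal R = Ideal.span {π} := (IsDiscreteValuationRing.irreducible_iff_uniformizer π).1 hπ
  have hdvd : ∀ z ∈ maximalIdeal R, π ∣ z := fun z hz => Ideal.mem_span_singleton.1 (hm ▸ hz)
  obtain ⟨c1, hc1⟩ := hdvd _ hI₂.a₁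
  obtain ⟨cμ, hcμ⟩ := hdvd _ hμ
  obtain ⟨cν, hcν⟩ := hdvd _ hν
  obtain ⟨d1, hd1⟩ := hdvd _ (Ideal.sub_mem _ hI₂.a₁ hμ)
  have hπ0 : algebraMap R K π ≠ 0 := (map_ne_zero_iff _ (IsFractionRing.injective R K)).2 hπ.ne_zero
  refine ⟨⟨Units.mk0 (algebraMap R K π) hπ0, 0, 0, 0⟩ * ⟨1, q a, q l, q b⟩, ?_, ?_⟩
  · rw [mul_smul]
    change IsIntegral R ((⟨Units.mk0 (algebraMap R K π) hπ0, 0, 0, 0⟩ : VariableChange K) • W₂)
    refine isIntegral_of_exists_lift R ⟨c1, ?_⟩ ⟨cν * d1, ?_⟩ ⟨cμ * cν * d1, ?_⟩ ⟨0, ?_⟩ ⟨0, ?_⟩ <;>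
      simp only [variableChange_a₁, variableChange_a₂, variableChange_a₃, variableChange_a₄,
        variableChange_a₆, Units.val_inv_eq_inv_val, Units.val_mk0, a4z, a6z, ← f1, ← f2, ← f3]
    · rw [hc1, map_mul]; field_simp; ring
    · rw [e2', hd1, hcν]; simp only [map_mul]; field_simp; ring
    · rw [e3', e2', hd1, hcν, hcμ]; simp only [map_mul]; field_simp; ring
    · simp
    · simp
  · rw [mul_smul, variableChange_Δ, variableChange_Δ]
    simp only [Units.val_inv_eq_inv_val, Units.val_mk0, inv_one, Units.val_one, one_pow, one_mul]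
    field_simp

omit [DecidableEq K] in
theorem cusp_shift_of_additive [IsAlgClosed (ResidueField R)] (hΔ : I.Δ ∈ maximalIdeal R)
    (hc : I.c₄ ∈ maximalIdeal R) :
    ∃ r s t : R, Cusp ((VariableChange.mk 1 r s t : VariableChange R) • I) := by
  obtain ⟨r, s, t, h1, h2, h3, h4, h6⟩ := exists_cusp_form (I.map (residue R))
    (by rwa [map_Δ, residue_eq_zero_iff]) (by rwa [map_c₄, residue_eq_zero_iff])
  obtain ⟨r, rfl⟩ := residue_surjective r
  obtain ⟨s, rfl⟩ := residue_surjective s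
  obtain ⟨t, rfl⟩ := residue_surjective t
  simp only [variableChange_a₁, variableChange_a₂, variableChange_a₃, variableChange_a₄, variableChange_a₆,
    inv_one, Units.val_one, one_pow, one_mul, map_a₁, map_a₂, map_a₃, map_a₄, map_a₆] at h1 h2 h3 h4 h6
  refine ⟨r, s, t, ?_, ?_, ?_, ?_, ?_⟩ <;>
    simp only [variableChange_a₁, variableChange_a₂, variableChange_a₃, variableChange_a₄, variableChange_a₆,
      inv_one, Units.val_one, one_pow, one_mul, ← residue_eq_zero_iff, map_add, map_sub, map_mul, map_pow,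
      map_ofNat] <;>
    assumption

theorem semistable [IsAlgClosed (ResidueField R)] (W : WeierstrassCurve K) [W.IsElliptic] [IsMinimal R W]
    {n : ℕ} (hn4 : 4 < n) (hn : IsUnit (n : R)) (P : W.toAffine.Point) (hP : addOrderOf P = n) :
    W.HasGoodReduction R ∨ W.HasMultiplicativeReduction R := by
  rcases hasGoodReduction_or_hasMultiplicativeReduction_or_hasAdditiveReduction (R := R) (W := W) with h | h | h
  · exact Or.inl h
  · exact Or.inr h
  exfalso
  let I := integralModel R W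
  have hI : I.map (algebraMap R K) = W := baseChange_integralModel_eq R W
  let v := IsDiscreteValuationRing.maximalIdeal R
  have mem : ∀ z : R, IsDedekindDomain.HeightOneSpectrum.valuation K v (algebraMap R K z) < 1 →
      z ∈ maximalIdeal R := fun z hz =>
    (IsDedekindDomain.HeightOneSpectrum.valuation_lt_one_iff_mem v z).1 hz
  obtain ⟨r, s, t, hcusp⟩ := cusp_shift_of_additive (I := I)
    (mem _ (by rw [integralModel_Δ_eq]; exact h.badReduction))
    (mem _ (by rw [integralModel_c₄_eq]; exact h.additiveReduction))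
  let q := algebraMap R K
  have hW₁ : ((VariableChange.mk 1 r s t : VariableChange R) • I).map q = shift W (q r) (q s) (q t) := by
    conv_rhs => rw [← hI]
    ext <;> simp [q, variableChange_a₁, variableChange_a₂, variableChange_a₃, variableChange_a₄,
      variableChange_a₆, map_add, map_sub, map_mul, map_ofNat]
  obtain ⟨π, hπ⟩ := IsDiscreteValuationRing.exists_irreducible R
  obtain ⟨C, hC, hΔ⟩ := exists_smaller_of_cusp hW₁ hcusp hn4 hn (shiftHom (q r) (q s) (q t) P)
    (by rw [addOrderOf_injective _ (shiftHom_injective (W := W) _ _ _), hP]) hπ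
  rw [← mul_smul] at hC hΔ
  set C' := C * (⟨1, q r, q s, q t⟩ : VariableChange K)
  have hΔ' : (C' • W).Δ * algebraMap R K π ^ 12 = W.Δ := by
    rw [hΔ, variableChange_Δ]; simp
  have hmax := (IsMinimal.val_Δ_maximal (R := R) (W := W)).2 hC
  have h0 : W.Δ ≠ 0 := W.coe_Δ' ▸ W.Δ'.ne_zero
  set val := IsDedekindDomain.HeightOneSpectrum.valuation K v
  have hπv : val (algebraMap R K π) < 1 :=
    (IsDedekindDomain.HeightOneSpectrum.valuation_lt_one_iff_mem v π).2
      ((IsLocalRing.mem_maximalIdeal π).2 hπ.not_isUnit)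
  have hlt : val W.Δ < val (C' • W).Δ := by
    have hne : val (C' • W).Δ ≠ 0 := by
      rw [Valuation.ne_zero_iff]; intro e; rw [e, zero_mul] at hΔ'; exact h0 hΔ'.symm
    calc val W.Δ = val (C' • W).Δ * val (algebraMap R K π) ^ 12 := by rw [← hΔ', map_mul, map_pow]
      _ < val (C' • W).Δ := mul_lt_of_lt_one_right (zero_lt_iff.2 hne) (pow_lt_one₀ zero_le hπv (by norm_num))
  haveI := hC
  have h1 : valuation_Δ_aux R ((1 : VariableChange K) • W) ≤ valuation_Δ_aux R (C' • W) := by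
    rw [one_smul, ← Subtype.coe_le_coe, valuation_Δ_aux_eq_of_isIntegral, valuation_Δ_aux_eq_of_isIntegral]
    exact hlt.le
  have h2 := hmax h1
  simp only at h2
  rw [one_smul, ← Subtype.coe_le_coe, valuation_Δ_aux_eq_of_isIntegral, valuation_Δ_aux_eq_of_isIntegral] at h2
  exact absurd h2 (not_le.2 hlt)

end Groth.Agent.H9EllAdd
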